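import Groth.Agent.CAlgReflexive.Basic
import Groth.Agent.CAlgReg.GlobalDim
import Mathlib

/-!
# Reflexive modules over regular local rings of small dimension, and of rank one over UFDs
-/

set_option autoImplicit false
set_option linter.style.haveILetI false

namespace Groth.Agent.ReflStalk

universe u

open Module

variable {R : Type u} [CommRing R] [IsDomain R]

theorem free_of_isReflexive_of_dim_le_two [IsRegularLocalRing R] (h : ringKrullDim R ≤ 2)
    (M : Type u) [AddCommGroup M] [Module R M] [Module.Finite R M] [Module.IsReflexive R M] :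
    Module.Free R M := by
  obtain ⟨d, hd⟩ := CAlgReg.exists_dim (R := R)
  have hd2 : d + 1 ≤ 3 := by
    rw [hd] at h
    have : d ≤ 2 := by exact_mod_cast h
    omega
  obtain ⟨n, l, f, g, hf, hfg⟩ := CAlgReflexive.exists_free_exact (R := R) M
  have h3 : CAlgReg.PdLT R ((Fin l → R) ⧸ LinearMap.range g) 3 :=
    CAlgReg.pdLT_mono hd2 (CAlgReg.pdLT_of_isRegularLocalRing hd _)
  have h2 : CAlgReg.PdLT R (LinearMap.range g) 2 :=
    CAlgReg.pdLT_left (LinearMap.range g).subtype (LinearMap.range g).mkQ Subtype.val_injective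
      (LinearMap.exact_subtype_mkQ _) (Submodule.mkQ_surjective _) (n := 1) h3
  have h1 : CAlgReg.PdLT R M 1 :=
    CAlgReg.pdLT_left f g.rangeRestrict hf
      (fun y => by
        rw [← hfg y]
        exact Subtype.ext_iff)
      g.surjective_rangeRestrict (n := 0) h2
  haveI : CategoryTheory.Projective (ModuleCat.of R M) :=
    CategoryTheory.projective_iff_hasProjectiveDimensionLT_one.2 h1
  haveI : Module.Projective R M := (IsProjective.iff_projective (R := R) M).2 this
  exact Module.free_of_flat_of_isLocalRing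

theorem rank_one_comm {M : Type u} [AddCommGroup M] [Module R M] (L : M →ₗ[R] R) (hL : Function.Injective L)
    (ψ : Dual R M) (a b : M) : ψ a * L b = ψ b * L a := by
  have h : L b • a = L a • b := hL (by rw [map_smul, map_smul, smul_eq_mul, smul_eq_mul, mul_comm])
  have := congrArg ψ h
  rw [map_smul, map_smul, smul_eq_mul, smul_eq_mul] at this
  rw [mul_comm (ψ a), this, mul_comm]

theorem nonempty_equiv_of_rank_one [UniqueFactorizationMonoid R] (M : Type u) [AddCommGroup M]
    [Module R M] [Module.Finite R M] [Module.IsReflexive R M] (L : M →ₗ[R] R) (hL : Function.Injective L)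
    [Nontrivial M] : Nonempty (M ≃ₗ[R] R) := by
  classical
  letI : StrongNormalizationMonoid R := UniqueFactorizationMonoid.strongNormalizationMonoid
  letI : StrongNormalizedGCDMonoid R := UniqueFactorizationMonoid.toStrongNormalizedGCDMonoid R
  obtain ⟨s, hs⟩ := Module.Finite.fg_top (R := R) (M := M)
  obtain ⟨m₀, hm₀, hne⟩ : ∃ m ∈ s, L m ≠ 0 := by
    by_contra hcon
    push Not at hcon
    obtain ⟨x, hx⟩ := exists_ne (0 : M)
    refine hx (hL ?_)
    rw [map_zero]
    have : L = 0 := LinearMap.ext_on hs fun m hm => hcon m hm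
    rw [this]; rfl
  obtain ⟨c, hc, hc1⟩ := Finset.extract_gcd (fun m => L m) ⟨m₀, hm₀⟩
  have hg0 : s.gcd (fun m => L m) ≠ 0 := fun h => hne (Finset.gcd_eq_zero_iff.1 h m₀ hm₀)
  have hdvd : ∀ m, s.gcd (fun m => L m) ∣ L m := fun m => by
    have hm : m ∈ Submodule.span R (s : Set M) := hs ▸ Submodule.mem_top
    induction hm using Submodule.span_induction with
    | mem x hx => exact Finset.gcd_dvd hx
    | zero => rw [map_zero]; exact dvd_zero _
    | add a b _ _ ha hb => rw [map_add]; exact dvd_add ha hb
    | smul r a _ ha => rw [map_smul]; exact ha.mul_left r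
  choose L₁ hL₁ using hdvd
  let L' : Dual R M :=
    { toFun := L₁
      map_add' := fun a b => mul_left_cancel₀ hg0 (by rw [mul_add, ← hL₁, ← hL₁, ← hL₁, map_add])
      map_smul' := fun r a => mul_left_cancel₀ hg0 (by
        rw [RingHom.id_apply, smul_eq_mul, mul_left_comm, ← hL₁, ← hL₁, map_smul, smul_eq_mul]) }
  have hL' : Function.Injective L' := fun a b hab => hL (by
    rw [hL₁ a, hL₁ b]; exact congrArg _ hab)
  have hc' : ∀ m ∈ s, L' m = c m := fun m hm => mul_left_cancel₀ hg0 ((hL₁ m).symm.trans (hc m hm))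
  have hgen : Function.Bijective (LinearMap.toSpanSingleton R (Dual R M) L') := by
    refine ⟨fun a b hab => ?_, fun ψ => ?_⟩
    · have h2 := LinearMap.congr_fun hab m₀
      simp only [LinearMap.toSpanSingleton_apply, LinearMap.smul_apply, smul_eq_mul] at h2
      refine mul_right_cancel₀ (fun h0 => hne ?_) h2
      rw [hL₁ m₀]
      show _ * L' m₀ = 0
      rw [h0, mul_zero]
    · have hd : c m₀ ∣ s.gcd fun m => ψ m₀ * c m :=
        Finset.dvd_gcd fun m hm => ⟨ψ m, by
          rw [← hc' m hm, ← hc' m₀ hm₀, rank_one_comm L' hL' ψ m₀ m, mul_comm]⟩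
      rw [Finset.gcd_mul_left, hc1, mul_one, dvd_normalize_iff] at hd
      obtain ⟨t, ht⟩ := hd
      refine ⟨t, LinearMap.ext fun m => ?_⟩
      rw [LinearMap.toSpanSingleton_apply, LinearMap.smul_apply, smul_eq_mul]
      have h0 : L' m₀ ≠ 0 := fun h0 => hne (by
        rw [hL₁ m₀]; show _ * L' m₀ = 0; rw [h0, mul_zero])
      refine mul_left_cancel₀ h0 ?_
      have := rank_one_comm L' hL' ψ m₀ m
      rw [ht, ← hc' m₀ hm₀] at this
      rw [← mul_assoc, this, mul_comm]
  exact ⟨(Module.evalEquiv R M).trans
    ((LinearEquiv.ofBijective _ hgen).dualMap.trans (LinearMap.ringLmapEquivSelf R R R))⟩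

theorem exists_injective_of_fractions {K : Type u} [Field K] [Algebra R K] [IsFractionRing R K]
    (M : Type u) [AddCommGroup M] [Module R M] [Module.Finite R M] (ψ : M →ₗ[R] K)
    (hψ : Function.Injective ψ) : ∃ L : M →ₗ[R] R, Function.Injective L := by
  classical
  obtain ⟨s, hs⟩ := Module.Finite.fg_top (R := R) (M := M)
  obtain ⟨b, hb⟩ := IsLocalization.exist_integer_multiples (nonZeroDivisors R) s fun m => ψ m
  have hmem : ∀ m, ((b : R) • ψ) m ∈ LinearMap.range (Algebra.linearMap R K) := fun m => by
    have hm : m ∈ Submodule.span R (s : Set M) := hs ▸ Submodule.mem_top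
    induction hm using Submodule.span_induction with
    | mem x hx =>
      obtain ⟨r, hr⟩ := hb x hx
      exact ⟨r, hr⟩
    | zero => rw [map_zero]; exact zero_mem _
    | add a b _ _ ha hb => rw [map_add]; exact add_mem ha hb
    | smul r a _ ha => rw [map_smul]; exact Submodule.smul_mem _ r ha
  refine ⟨(LinearEquiv.ofInjective (Algebra.linearMap R K) (IsFractionRing.injective R K)).symm.toLinearMap
    ∘ₗ ((b : R) • ψ).codRestrict _ hmem, fun a a' h => hψ ?_⟩
  have h2 := congrArg Subtype.val
    ((LinearEquiv.ofInjective (Algebra.linearMap R K) (IsFractionRing.injective R K)).symm.injective h)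
  simp only [LinearMap.codRestrict_apply, LinearMap.smul_apply] at h2
  rw [Algebra.smul_def, Algebra.smul_def] at h2
  exact mul_left_cancel₀ (fun h0 => nonZeroDivisors.ne_zero b.2
    (IsFractionRing.injective R K (h0.trans (map_zero _).symm))) h2

end Groth.Agent.ReflStalk
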