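import Groth.Agent.ReflStalk.Normal
import Groth.Agent.ReflStalk.Local
import Groth.Agent.RefDiv.IsoLocus
import Groth.Agent.ProjUPLib.TwistN
import Groth.Agent.RefDiv.Classify

/-!
# Reflexive modules of rank one on regular schemes
-/

set_option autoImplicit false
set_option linter.style.haveILetI false
set_option backward.isDefEq.respectTransparency.types false

noncomputable section

universe u

open CategoryTheory AlgebraicGeometry Opposite TopologicalSpace
open Groth.Agent.QCohBase Groth.Agent.GenLocus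

namespace Groth.Agent.ReflStalk

variable {X : Scheme.{u}}

/-- A section generating every stalk freely is a frame. -/
theorem isFrame_of_genMap {F : X.Modules} {W : X.Opens} (m : Γ(F, W))
    (h : ∀ y (hy : y ∈ W), Function.Bijective (RefDiv.genMap m y hy)) : IsFrame F m := by
  intro V hV
  have hinj : ∀ (T : X.Opens) (hT : T ≤ W) (r r' : Γ(X, T)),
      r • mres F hT m = r' • mres F hT m → r = r' := by
    intro T hT r r' he
    refine TopCat.Presheaf.section_ext X.sheaf T r r' fun y hy => (h y (hT hy)).1 ?_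
    have e := congrArg (F.presheaf.germ T y hy) he
    rw [Mero.germ_smul, Mero.germ_smul, mres, TopCat.Presheaf.germ_res_apply] at e
    exact e
  refine ⟨fun r r' he => hinj V hV r r' he, fun l => ?_⟩
  have hloc : ∀ y : V, ∃ (T : X.Opens) (_ : y.1 ∈ T) (hT : T ≤ V) (r : Γ(X, T)),
      r • mres F (hT.trans hV) m = mres F hT l := by
    rintro ⟨y, hy⟩
    obtain ⟨a, ha⟩ := (h y (hV hy)).2 (F.presheaf.germ V y hy l)
    obtain ⟨W₀, hW₀, r, rfl⟩ := X.presheaf.exists_germ_eq (x := y) a
    let r₁ : Γ(X, W₀ ⊓ V) := X.presheaf.map (homOfLE (inf_le_left : W₀ ⊓ V ≤ W₀)).op r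
    have he : F.presheaf.germ (W₀ ⊓ V) y ⟨hW₀, hy⟩
        (r₁ • mres F ((inf_le_right : W₀ ⊓ V ≤ V).trans hV) m) =
        F.presheaf.germ V y hy l := by
      simp only [r₁]
      rw [Mero.germ_smul, TopCat.Presheaf.germ_res_apply, mres, TopCat.Presheaf.germ_res_apply]
      exact ha
    obtain ⟨T, hT, i₁, i₂, e'⟩ := TopCat.Presheaf.germ_eq F.presheaf y _ _ _ _ he
    refine ⟨T, hT, i₂.le, X.presheaf.map i₁.op r₁, ?_⟩
    rw [← mres_mres F ((inf_le_right : W₀ ⊓ V ≤ V).trans hV) i₁.le]
    refine Eq.trans (Scheme.Modules.map_smul F i₁ _ _).symm ?_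
    exact e'
  choose T hyT hTV r hr using hloc
  obtain ⟨g, hg⟩ : ∃ g : Γ(X, V), ∀ i, X.presheaf.map (homOfLE (hTV i)).op g = r i := by
    obtain ⟨g, hg, -⟩ := X.sheaf.existsUnique_gluing' T V (fun y => homOfLE (hTV y))
      (fun y hy => Opens.mem_iSup.2 ⟨⟨y, hy⟩, hyT _⟩) r (fun i j => by
      refine hinj (T i ⊓ T j) ((inf_le_left.trans (hTV i)).trans hV) _ _ ?_
      have hi := congrArg (mres F (inf_le_left : T i ⊓ T j ≤ T i)) (hr i)
      have hj := congrArg (mres F (inf_le_right : T i ⊓ T j ≤ T j)) (hr j)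
      rw [mres_smul, mres_mres, mres_mres] at hi hj
      exact hi.trans hj.symm)
    exact ⟨g, hg⟩
  refine ⟨g, TopCat.Presheaf.section_ext ⟨F.presheaf, F.isSheaf⟩ V _ l fun y hy => ?_⟩
  let i : V := ⟨y, hy⟩
  show F.presheaf.germ V y hy (g • mres F hV m) = F.presheaf.germ V y hy l
  have e := congrArg (F.presheaf.germ (T i) y (hyT i)) (hr i)
  rw [← hg i, Mero.germ_smul, mres, mres, TopCat.Presheaf.germ_res_apply,
    TopCat.Presheaf.germ_res_apply] at e
  rw [Mero.germ_smul, mres, TopCat.Presheaf.germ_res_apply]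
  exact e.trans (TopCat.Presheaf.germ_res_apply F.presheaf (homOfLE (hTV i)) y (hyT i) l)

variable [IsIntegral X] [IsLocallyNoetherian X] {F : X.Modules}

theorem isInvertible_of_rank_one_ufd (hufd : ∀ x : X, UniqueFactorizationMonoid (X.presheaf.stalk x))
    (hF : Coh.IsCoh F) (hrefl : RefHull.IsReflexive F) (hrk : RefHull.GenInvertible F) :
    PicF.IsInvertible F := by
  obtain ⟨W₀, hW₀, e, he⟩ := RefDiv.exists_frame_eta hrk
  have hv₀ : F.presheaf.germ W₀ (genericPoint X) hW₀ e ≠ 0 := fun h0 => one_ne_zero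
    ((RefDiv.frame_eta_bijective hW₀ he).1 (show (1 : X.presheaf.stalk (genericPoint X)) • _ = (0 : X.presheaf.stalk (genericPoint X)) • _ by
      rw [h0, smul_zero, smul_zero]))
  obtain ⟨φ, hφ, -⟩ := RefDiv.exists_fnl hrk _ hv₀
  refine ProjUPLib.isInvertible_of_local_frames fun x => ?_
  have := hufd x
  have := RefDiv.finite_stalk hF x
  have hr : RefHull.IsReflexiveAt F x := (isReflexive_iff hF).1 hrefl x
  have : Module.IsReflexive (X.presheaf.stalk x) (F.presheaf.stalk x) := hr
  have hinj : Function.Injective (RefDiv.valAt φ x) :=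
    hφ.1.comp (toEta_injective hF x (isTorsionFree_of_isReflexiveAt hF x hr))
  have : Nontrivial (F.presheaf.stalk x) := by
    obtain ⟨v, hv⟩ := RefDiv.exists_valAt_ne_zero hF.1 hφ x
    exact ⟨⟨v, 0, fun h => hv (by rw [h, map_zero])⟩⟩
  obtain ⟨L, hL⟩ := exists_injective_of_fractions (F.presheaf.stalk x) (RefDiv.valAt φ x) hinj
  obtain ⟨eq⟩ := nonempty_equiv_of_rank_one (F.presheaf.stalk x) L hL
  obtain ⟨U₀, hxU₀, m₀, hm₀⟩ := TopCat.Presheaf.exists_germ_eq F.presheaf (eq.symm 1)
  obtain ⟨_, ⟨U, hU, rfl⟩, hxU, hle⟩ :=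
    X.isBasis_affineOpens.exists_subset_of_mem_open hxU₀ U₀.isOpen
  let m : Γ(F, U) := mres F (hle : U ≤ U₀) m₀
  have hb : Function.Bijective (RefDiv.genMap m x hxU) := by
    have : RefDiv.genMap m x hxU = eq.symm := funext fun a => by
      simp only [RefDiv.genMap, m, mres, TopCat.Presheaf.germ_res_apply]
      rw [hm₀, ← map_smul, smul_eq_mul, mul_one]
    rw [this]
    exact eq.symm.bijective
  obtain ⟨W, hxW, hWU, hgen⟩ := RefDiv.isOpen_generates hF hU m hxU hb
  refine ⟨W, hxW, mres F hWU m, isFrame_of_genMap _ fun y hy => ?_⟩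
  have : RefDiv.genMap (mres F hWU m) y hy = RefDiv.genMap m y (hWU hy) := funext fun a => by
    simp only [RefDiv.genMap, mres, TopCat.Presheaf.germ_res_apply]
  rw [this]
  exact hgen y hy

theorem isInvertible_of_rank_one (hreg : ∀ x : X, IsRegularLocalRing (X.presheaf.stalk x))
    (hF : Coh.IsCoh F) (hrefl : RefHull.IsReflexive F) (hrk : RefHull.GenInvertible F) :
    PicF.IsInvertible F :=
  isInvertible_of_rank_one_ufd (fun x => by
    have := hreg x
    exact RegUFD.ufd (X.presheaf.stalk x)) hF hrefl hrk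

end Groth.Agent.ReflStalk
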