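import Groth.Agent.FlatOver.Basic
import Groth.Agent.QCohBase.CohProps
import Groth.Agent.RefDiv.IsoLocus

/-!
# Stalks of duals of coherent modules

An affine chart of a module `G`: a finite module `N` over the coordinate ring with a map to sections
inducing localizations on stalks.
-/

set_option autoImplicit false
set_option linter.style.haveILetI false
set_option backward.isDefEq.respectTransparency.types false

noncomputable section

universe u

open CategoryTheory AlgebraicGeometry Opposite TopologicalSpace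

namespace Groth.Agent.ReflStalk

variable {X : Scheme.{u}} {U : X.Opens}

/-- germ of a function -/
abbrev og (U : X.Opens) (y : X) (hy : y ∈ U) (r : Γ(X, U)) : X.presheaf.stalk y :=
  X.presheaf.germ U y hy r

/-- An affine chart of a module. -/
structure Chart (G : X.Modules) (U : X.Opens) where
  N : Type u
  [acg : AddCommGroup N]
  [mod : Module Γ(X, U) N]
  [fin : Module.Finite Γ(X, U) N]
  ι : N →+ Γ(G, U)
  ι_smul : ∀ (r : Γ(X, U)) (n : N), ι (r • n) = r • ι n
  germ_surj : ∀ (y : X) (hy : y ∈ U) (v : G.presheaf.stalk y),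
    ∃ (g : Γ(X, U)) (n : N), IsUnit (og U y hy g) ∧ og U y hy g • v = G.presheaf.germ U y hy (ι n)
  germ_zero : ∀ (y : X) (hy : y ∈ U) (n : N), G.presheaf.germ U y hy (ι n) = 0 →
    ∃ g : Γ(X, U), IsUnit (og U y hy g) ∧ g • n = 0

attribute [instance] Chart.acg Chart.mod Chart.fin

/-- The chart of a coherent module on an affine open. -/
def ofCoh {F : X.Modules} (hF : Coh.IsCoh F) (hU : IsAffineOpen U) : Chart F U :=
  haveI : F.IsQuasicoherent := hF.1
  { N := Γ(F, U)
    fin := QCohBase.isFiniteType_toFinite hF hU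
    ι := AddMonoidHom.id _
    ι_smul := fun _ _ => rfl
    germ_surj := fun y hy v => by
      obtain ⟨g, s, hg, h⟩ := AssPts.exists_germ_smul_eq F hU y hy v
      exact ⟨g, s, (AssPts.notMem_prime_iff hU y hy g).1 hg, h⟩
    germ_zero := fun y hy n hn => by
      letI := FlatOver.germModule F y hy
      haveI := FlatOver.isLocalizedModule_germₗ F hU y hy
      obtain ⟨g, hg⟩ := (IsLocalizedModule.eq_zero_iff (hU.primeIdealOf ⟨y, hy⟩).asIdeal.primeCompl
        (FlatOver.germₗ F y hy)).1 hn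
      exact ⟨g.1, (AssPts.notMem_prime_iff hU y hy g.1).1 g.2, hg⟩ }

theorem og_res {V W : X.Opens} (h : V ≤ W) (y : X) (hy : y ∈ V) (r : Γ(X, W)) :
    og V y hy (X.presheaf.map (homOfLE h).op r) = og W y (h hy) r :=
  TopCat.Presheaf.germ_res_apply X.presheaf (homOfLE h) y hy r

theorem germ_res' {G : X.Modules} {V W : X.Opens} (h : V ≤ W) (y : X) (hy : y ∈ V) (m : Γ(G, W)) :
    G.presheaf.germ V y hy (G.presheaf.map (homOfLE h).op m) = G.presheaf.germ W y (h hy) m :=
  TopCat.Presheaf.germ_res_apply G.presheaf (homOfLE h) y hy m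

theorem og_mul (y : X) (hy : y ∈ U) (r s : Γ(X, U)) : og U y hy (r * s) = og U y hy r * og U y hy s :=
  map_mul (X.presheaf.germ U y hy).hom r s

theorem exists_unit_og_mul_eq_zero (hU : IsAffineOpen U) (y : X) (hy : y ∈ U) (r : Γ(X, U))
    (h : og U y hy r = 0) : ∃ g : Γ(X, U), IsUnit (og U y hy g) ∧ g * r = 0 := by
  letI := (X.presheaf.germ U y hy).hom.toAlgebra
  haveI : IsLocalization.AtPrime (X.presheaf.stalk y) (hU.primeIdealOf ⟨y, hy⟩).asIdeal :=
    hU.isLocalization_stalk ⟨y, hy⟩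
  obtain ⟨g, hg⟩ := (IsLocalization.map_eq_zero_iff (hU.primeIdealOf ⟨y, hy⟩).asIdeal.primeCompl
    (X.presheaf.stalk y) r).1 h
  exact ⟨g.1, (AssPts.notMem_prime_iff hU y hy g.1).1 g.2, hg⟩

/-- `O_y ≅ (O_X)_y` -/
def eO (y : X) : X.presheaf.stalk y ≃ₗ[X.presheaf.stalk y] (Coh.structureModule X).presheaf.stalk y :=
  LinearEquiv.ofBijective (LinearMap.toSpanSingleton _ _
    ((Coh.structureModule X).presheaf.germ ⊤ y trivial
      ((1 : X.ringCatSheaf.obj.obj (op ⊤)) : (Coh.structureModule X).val.obj (op ⊤))))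
    (RefDiv.bijective_one_smul y)

theorem eO_germ {W : X.Opens} (y : X) (hy : y ∈ W) (r : Γ(X, W)) :
    eO y (og W y hy r) = (Coh.structureModule X).presheaf.germ W y hy r := by
  show og W y hy r • ((Coh.structureModule X).presheaf.germ ⊤ y trivial
      ((1 : X.ringCatSheaf.obj.obj (op ⊤)) : (Coh.structureModule X).val.obj (op ⊤))) = _
  rw [← TopCat.Presheaf.germ_res_apply (Coh.structureModule X).presheaf (homOfLE (le_top : W ≤ ⊤)) y hy,
    ← Mero.germ_smul]
  refine congrArg _ ?_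
  have : (Coh.structureModule X).presheaf.map (homOfLE (le_top : W ≤ ⊤)).op
      ((1 : X.ringCatSheaf.obj.obj (op ⊤)) : (Coh.structureModule X).val.obj (op ⊤)) =
      ((1 : X.ringCatSheaf.obj.obj (op W)) : (Coh.structureModule X).val.obj (op W)) :=
    PresheafOfModules.unit_map_one _ _
  rw [this]
  exact mul_one (r : X.ringCatSheaf.obj.obj (op W))

variable {G : X.Modules} (C : Chart G U)

namespace Chart

theorem span_germ (y : X) (hy : y ∈ U) {t : Set C.N} (ht : Submodule.span Γ(X, U) t = ⊤) :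
    Submodule.span (X.presheaf.stalk y) ((fun n => G.presheaf.germ U y hy (C.ι n)) '' t) = ⊤ := by
  rw [eq_top_iff]
  intro v _
  obtain ⟨g, n, hg, hv⟩ := C.germ_surj y hy v
  have hn : G.presheaf.germ U y hy (C.ι n) ∈
      Submodule.span (X.presheaf.stalk y) ((fun n => G.presheaf.germ U y hy (C.ι n)) '' t) := by
    have hmem : n ∈ Submodule.span Γ(X, U) t := ht ▸ Submodule.mem_top
    clear hv
    induction hmem using Submodule.span_induction with
    | mem x hx => exact Submodule.subset_span ⟨x, hx, rfl⟩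
    | zero => rw [map_zero, map_zero]; exact zero_mem _
    | add a b _ _ ha hb => rw [map_add, map_add]; exact add_mem ha hb
    | smul r a _ ha => rw [C.ι_smul, Mero.germ_smul]; exact Submodule.smul_mem _ _ ha
  rw [← hv] at hn
  exact (Submodule.smul_mem_iff_of_isUnit _ hg).1 hn

variable (hU : IsAffineOpen U) (ψ : C.N →ₗ[Γ(X, U)] Γ(X, U))

/-- `c` is the value at `v` of the localization of `ψ` -/
def IsVal (y : X) (hy : y ∈ U) (v : G.presheaf.stalk y) (c : X.presheaf.stalk y) : Prop :=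
  ∀ g n, og U y hy g • v = G.presheaf.germ U y hy (C.ι n) → og U y hy g * c = og U y hy (ψ n)

theorem exists_isVal (y : X) (hy : y ∈ U) (v : G.presheaf.stalk y) : ∃ c, C.IsVal ψ y hy v c := by
  obtain ⟨g₀, n₀, ⟨w, hw⟩, hv₀⟩ := C.germ_surj y hy v
  refine ⟨↑w⁻¹ * og U y hy (ψ n₀), fun g n hv => ?_⟩
  have h0 : G.presheaf.germ U y hy (C.ι (g • n₀ - g₀ • n)) = 0 := by
    rw [map_sub, map_sub, C.ι_smul, C.ι_smul, Mero.germ_smul, Mero.germ_smul, ← hv, ← hv₀,
      sub_eq_zero]
    exact smul_comm _ _ _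
  obtain ⟨h, hh, hz⟩ := C.germ_zero y hy _ h0
  have h2 : og U y hy h * (og U y hy g * og U y hy (ψ n₀) - og U y hy g₀ * og U y hy (ψ n)) = 0 := by
    have e : h * (g * ψ n₀ - g₀ * ψ n) = 0 := by
      have := congrArg ψ hz
      simpa [smul_eq_mul] using this
    have := congrArg (og U y hy) e
    simpa [og] using this
  have h3 := sub_eq_zero.1 (hh.mul_right_eq_zero.1 h2)
  rw [mul_left_comm, h3, ← hw, Units.inv_mul_cancel_left]

theorem isVal_unique (y : X) (hy : y ∈ U) (v : G.presheaf.stalk y) (c c' : X.presheaf.stalk y)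
    (h : C.IsVal ψ y hy v c) (h' : C.IsVal ψ y hy v c') : c = c' := by
  obtain ⟨g, n, hg, hv⟩ := C.germ_surj y hy v
  exact hg.mul_left_cancel ((h g n hv).trans (h' g n hv).symm)

theorem isVal_of_eq {y : X} {hy : y ∈ U} {v : G.presheaf.stalk y} {c : X.presheaf.stalk y}
    {g : Γ(X, U)} {n : C.N} (hg : IsUnit (og U y hy g))
    (hv : og U y hy g • v = G.presheaf.germ U y hy (C.ι n)) (hc : og U y hy g * c = og U y hy (ψ n)) :
    C.IsVal ψ y hy v c := by
  obtain ⟨c', hc'⟩ := C.exists_isVal ψ y hy v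
  rwa [hg.mul_left_cancel (hc.trans (hc' g n hv).symm)]

include hU in
theorem exists_ringFrac (y : X) (hy : y ∈ U) (a : X.presheaf.stalk y) :
    ∃ g r : Γ(X, U), IsUnit (og U y hy g) ∧ og U y hy g * a = og U y hy r := by
  obtain ⟨g, r, hg, h⟩ := AssPts.exists_ringGerm_mul_eq hU y hy a
  exact ⟨g, r, (AssPts.notMem_prime_iff hU y hy g).1 hg, by rw [mul_comm]; exact h⟩

/-- the localization of `ψ` on the stalk -/
def locMap (y : X) (hy : y ∈ U) : G.presheaf.stalk y →ₗ[X.presheaf.stalk y] X.presheaf.stalk y where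
  toFun v := (C.exists_isVal ψ y hy v).choose
  map_add' v v' := by
    refine C.isVal_unique ψ y hy (v + v') _ _ (C.exists_isVal ψ y hy _).choose_spec ?_
    obtain ⟨g, n, hg, hv⟩ := C.germ_surj y hy v
    obtain ⟨g', n', hg', hv'⟩ := C.germ_surj y hy v'
    refine C.isVal_of_eq ψ (g := g * g') (n := g' • n + g • n') (by rw [og_mul]; exact hg.mul hg') ?_ ?_
    · rw [og_mul, smul_add, map_add, map_add, C.ι_smul, C.ι_smul, Mero.germ_smul, Mero.germ_smul,
        ← hv, ← hv', smul_smul, smul_smul, mul_comm]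
    · rw [map_add, map_smul, map_smul, smul_eq_mul, smul_eq_mul]
      simp only [og, map_add, map_mul]
      have e1 := (C.exists_isVal ψ y hy v).choose_spec g n hv
      have e2 := (C.exists_isVal ψ y hy v').choose_spec g' n' hv'
      simp only [og] at e1 e2
      rw [← e1, ← e2]
      ring
  map_smul' a v := by
    refine C.isVal_unique ψ y hy (a • v) _ _ (C.exists_isVal ψ y hy _).choose_spec ?_
    obtain ⟨g, n, hg, hv⟩ := C.germ_surj y hy v
    obtain ⟨s, r, hs, ha⟩ := exists_ringFrac hU y hy a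
    refine C.isVal_of_eq ψ (g := s * g) (n := r • n) (by rw [og_mul]; exact hs.mul hg) ?_ ?_
    · rw [og_mul, C.ι_smul, Mero.germ_smul, ← hv]
      show _ = og U y hy r • _
      rw [← ha, smul_smul, smul_smul, mul_right_comm]
    · rw [map_smul, smul_eq_mul, RingHom.id_apply, smul_eq_mul, og_mul, og_mul,
        ← (C.exists_isVal ψ y hy v).choose_spec g n hv, ← ha]
      ring

theorem locMap_spec (y : X) (hy : y ∈ U) {g : Γ(X, U)} {n : C.N} {v : G.presheaf.stalk y}
    (hv : og U y hy g • v = G.presheaf.germ U y hy (C.ι n)) :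
    og U y hy g * C.locMap hU ψ y hy v = og U y hy (ψ n) :=
  (C.exists_isVal ψ y hy v).choose_spec g n hv

theorem locMap_germ (y : X) (hy : y ∈ U) (n : C.N) :
    C.locMap hU ψ y hy (G.presheaf.germ U y hy (C.ι n)) = og U y hy (ψ n) := by
  have := C.locMap_spec hU ψ y hy (g := 1) (n := n) (v := G.presheaf.germ U y hy (C.ι n))
    (by simp [og])
  simpa [og] using this

theorem linearMap_ext {Z : Type u} [AddCommGroup Z] (y : X) (hy : y ∈ U) [Module (X.presheaf.stalk y) Z]
    (f f' : G.presheaf.stalk y →ₗ[X.presheaf.stalk y] Z)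
    (h : ∀ n, f (G.presheaf.germ U y hy (C.ι n)) = f' (G.presheaf.germ U y hy (C.ι n))) : f = f' := by
  refine LinearMap.ext fun v => ?_
  obtain ⟨g, n, ⟨w, hw⟩, hv⟩ := C.germ_surj y hy v
  have := h n
  rw [← hv, map_smul, map_smul, ← hw] at this
  have h2 := congrArg (fun z => (↑w⁻¹ : X.presheaf.stalk y) • z) this
  simpa [smul_smul] using h2

/-- section of the dual defined by `ψ` -/
def sect : Γ(RefHull.dual G, U) :=
  ⟨fun y => (eO y.1).toLinearMap ∘ₗ C.locMap hU ψ y.1 y.2, fun V i m x => by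
    obtain ⟨g, n, hg, hv⟩ := C.germ_surj x.1 (i.le x.2) (G.presheaf.germ V x.1 x.2 m)
    rw [← germ_res' (i.le : V ≤ U) x.1 x.2, ← og_res (i.le : V ≤ U) x.1 x.2] at hv
    unfold og at hv
    rw [← Mero.germ_smul] at hv
    obtain ⟨W, hxW, i₁, i₂, hW⟩ := TopCat.Presheaf.germ_eq G.presheaf x.1 x.2 x.2 _ _ hv
    let W' : X.Opens := W ⊓ X.basicOpen g
    have hxW' : x.1 ∈ W' := ⟨hxW, (X.mem_basicOpen g x.1 (i.le x.2)).2 hg⟩
    have hWV : W' ≤ V := inf_le_left.trans i₁.le
    have hWU : W' ≤ U := hWV.trans i.le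
    have hu : IsUnit (X.presheaf.map (homOfLE hWU).op g) := by
      refine RingedSpace.isUnit_of_isUnit_germ X.toRingedSpace W' _ fun y hy => ?_
      show IsUnit (og W' y hy _)
      rw [og_res hWU y hy g]
      exact (X.mem_basicOpen g y (hWU hy)).1 hy.2
    refine ⟨W', hxW', homOfLE hWV,
      (↑hu.unit⁻¹ * X.presheaf.map (homOfLE hWU).op (ψ n) : Γ(X, W')), fun y => ?_⟩
    show eO y.1 (C.locMap hU ψ y.1 _ (G.presheaf.germ V y.1 _ m)) = _
    rw [← eO_germ y.1 y.2]
    refine congrArg _ ?_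
    have hy1 : og U y.1 (hWU y.2) g • G.presheaf.germ V y.1 (hWV y.2) m =
        G.presheaf.germ U y.1 (hWU y.2) (C.ι n) := by
      have e := congrArg (G.presheaf.germ W y.1 y.2.1) hW
      rw [TopCat.Presheaf.germ_res_apply, TopCat.Presheaf.germ_res_apply, Mero.germ_smul,
        TopCat.Presheaf.germ_res_apply, TopCat.Presheaf.germ_res_apply] at e
      exact e
    have hunit : IsUnit (og U y.1 (hWU y.2) g) := (X.mem_basicOpen g y.1 (hWU y.2)).1 y.2.2
    refine hunit.mul_left_cancel ((C.locMap_spec hU ψ y.1 (hWU y.2) hy1).trans ?_)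
    rw [← og_res hWU y.1 y.2 g, ← og_res hWU y.1 y.2 (ψ n), ← og_mul, ← mul_assoc, IsUnit.mul_val_inv,
      one_mul]⟩

theorem evalStalk_sect (y : X) (hy : y ∈ U) :
    RefHull.evalStalk G (Coh.structureModule X) y ((RefHull.dual G).presheaf.germ U y hy (C.sect hU ψ)) =
      (eO y).toLinearMap ∘ₗ C.locMap hU ψ y hy :=
  RefHull.evalStalk_germ G (Coh.structureModule X) y hy _

include C in
/-- Evaluation of germs of the dual is injective. -/
theorem evalStalk_injective (y : X) (hy : y ∈ U) :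
    Function.Injective (RefHull.evalStalk G (Coh.structureModule X) y) := by
  rw [injective_iff_map_eq_zero]
  intro θ hθ
  obtain ⟨W, hyW, g, rfl⟩ := TopCat.Presheaf.exists_germ_eq (RefHull.dual G).presheaf θ
  rw [RefHull.evalStalk_germ] at hθ
  obtain ⟨t, ht⟩ := Module.Finite.fg_top (R := Γ(X, U)) (M := C.N)
  have hloc : ∀ a : t, ∃ T : X.Opens, y ∈ T ∧ ∃ hT : T ≤ W ⊓ U, ∀ (z : X) (hz : z ∈ T),
      g.1 ⟨z, (hT hz).1⟩ (G.presheaf.germ U z (hT hz).2 (C.ι a.1)) = 0 := by
    intro a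
    obtain ⟨Y, hY, j, n, hn⟩ := RefHull.isLocSect_of_mem g (W ⊓ U) (homOfLE inf_le_left)
      (G.presheaf.map (homOfLE (inf_le_right : W ⊓ U ≤ U)).op (C.ι a.1)) ⟨y, hyW, hy⟩
    have h0 : (Coh.structureModule X).presheaf.germ Y y hY n =
        (Coh.structureModule X).presheaf.germ Y y hY 0 := by
      rw [map_zero, ← hn ⟨y, hY⟩]
      show g.1 ⟨y, hyW⟩ _ = 0
      rw [hθ]; rfl
    obtain ⟨T, hyT, i₁, i₂, hT⟩ := TopCat.Presheaf.germ_eq (Coh.structureModule X).presheaf y hY hY _ _ h0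
    refine ⟨T, hyT, i₁.le.trans j.le, fun z hz => ?_⟩
    have e1 := hn ⟨z, i₁.le hz⟩
    rw [germ_res' (inf_le_right : W ⊓ U ≤ U)] at e1
    refine e1.trans ?_
    have e2 := congrArg ((Coh.structureModule X).presheaf.germ T z hz) hT
    rw [TopCat.Presheaf.germ_res_apply, TopCat.Presheaf.germ_res_apply, map_zero] at e2
    exact e2
  choose T hyT hTle hT using hloc
  let T₀ : X.Opens := (Finset.univ.inf T) ⊓ (W ⊓ U)
  have hy₀ : y ∈ T₀ := by
    refine ⟨?_, hyW, hy⟩
    show y ∈ ((Finset.univ.inf T : X.Opens) : Set X)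
    rw [Opens.coe_finset_inf]
    simp only [Finset.mem_univ, Finset.inf_set_eq_iInter, Function.comp_apply, Set.iInter_true, Set.mem_iInter]
    exact fun a => hyT a
  rw [← germ_res' (inf_le_right.trans inf_le_left : T₀ ≤ W) y hy₀ g]
  have hz : (RefHull.dual G).presheaf.map (homOfLE (inf_le_right.trans inf_le_left : T₀ ≤ W)).op g = 0 := by
    refine Subtype.ext (funext fun z => ?_)
    have hzW : z.1 ∈ W := z.2.2.1
    have hzU : z.1 ∈ U := z.2.2.2
    show g.1 ⟨z.1, hzW⟩ = 0
    refine LinearMap.ext_on (C.span_germ z.1 hzU ht) ?_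
    rintro _ ⟨a, ha, rfl⟩
    exact hT ⟨a, ha⟩ z.1 ((Finset.inf_le (f := T) (Finset.mem_univ _)) z.2.1)
  rw [hz, map_zero]

theorem exists_locMap_eq [IsNoetherianRing Γ(X, U)] (y : X) (hy : y ∈ U)
    (φ : G.presheaf.stalk y →ₗ[X.presheaf.stalk y] X.presheaf.stalk y) :
    ∃ (g : Γ(X, U)) (ψ : C.N →ₗ[Γ(X, U)] Γ(X, U)), IsUnit (og U y hy g) ∧
      og U y hy g • φ = C.locMap hU ψ y hy := by
  classical
  obtain ⟨k, p, hp⟩ := Module.Finite.exists_fin' Γ(X, U) C.N
  choose s r hs hr using fun j : Fin k =>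
    exists_ringFrac hU y hy (φ (G.presheaf.germ U y hy (C.ι (p (Pi.single j 1)))))
  let s₀ := ∏ j, s j
  have hs₀ : IsUnit (og U y hy s₀) := by
    show IsUnit ((X.presheaf.germ U y hy).hom (∏ j, s j))
    rw [map_prod, IsUnit.prod_univ_iff]
    exact hs
  let r' : Fin k → Γ(X, U) := fun j => (∏ l ∈ Finset.univ.erase j, s l) * r j
  let χ : (Fin k → Γ(X, U)) →ₗ[Γ(X, U)] Γ(X, U) := Fintype.linearCombination Γ(X, U) r'
  have hval : ∀ c, og U y hy (χ c) = og U y hy s₀ * φ (G.presheaf.germ U y hy (C.ι (p c))) := by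
    intro c
    conv_rhs => rw [pi_eq_sum_univ' c, map_sum, map_sum, map_sum, map_sum, Finset.mul_sum]
    rw [Fintype.linearCombination_apply, og, map_sum]
    refine Finset.sum_congr rfl fun j _ => ?_
    rw [smul_eq_mul, map_mul, map_mul, map_smul, C.ι_smul, Mero.germ_smul, map_smul, smul_eq_mul]
    show og U y hy (c j) * (og U y hy (∏ l ∈ Finset.univ.erase j, s l) * og U y hy (r j)) = _
    rw [← hr j, ← mul_assoc (og U y hy (∏ l ∈ Finset.univ.erase j, s l)), ← og_mul,
      Finset.prod_erase_mul _ _ (Finset.mem_univ j)]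
    ring
  haveI : Module.Finite Γ(X, U) (LinearMap.ker p) := Module.IsNoetherian.finite _ _
  obtain ⟨t, ht⟩ := Module.Finite.fg_top (R := Γ(X, U)) (M := LinearMap.ker p)
  choose h hh hz using fun a : t => exists_unit_og_mul_eq_zero hU y hy (χ a.1.1) (by
    rw [hval, LinearMap.mem_ker.1 a.1.2]; simp)
  let h₀ := ∏ a, h a
  have hh₀ : IsUnit (og U y hy h₀) := by
    show IsUnit ((X.presheaf.germ U y hy).hom (∏ a, h a))
    rw [map_prod, IsUnit.prod_univ_iff]
    exact hh
  have hker : LinearMap.ker p ≤ LinearMap.ker (h₀ • χ) := by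
    intro z hzk
    have hmem : (⟨z, hzk⟩ : LinearMap.ker p) ∈ Submodule.span Γ(X, U) (t : Set (LinearMap.ker p)) :=
      ht ▸ Submodule.mem_top
    have : Submodule.span Γ(X, U) (t : Set (LinearMap.ker p)) ≤
        (LinearMap.ker (h₀ • χ)).comap (LinearMap.ker p).subtype := by
      refine Submodule.span_le.2 fun a ha => ?_
      show (∏ b, h b) • χ a.1 = 0
      rw [smul_eq_mul, ← Finset.prod_erase_mul _ _ (Finset.mem_univ (⟨a, ha⟩ : t)), mul_assoc,
        hz ⟨a, ha⟩, mul_zero]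
    exact this hmem
  let ψ : C.N →ₗ[Γ(X, U)] Γ(X, U) :=
    ((LinearMap.ker p).liftQ (h₀ • χ) hker) ∘ₗ (p.quotKerEquivOfSurjective hp).symm.toLinearMap
  refine ⟨h₀ * s₀, ψ, by rw [og_mul]; exact hh₀.mul hs₀, ?_⟩
  refine C.linearMap_ext y hy _ _ fun n => ?_
  obtain ⟨c, rfl⟩ := hp n
  rw [LinearMap.smul_apply, smul_eq_mul, C.locMap_germ]
  have : ψ (p c) = h₀ * χ c := by
    have e : (p.quotKerEquivOfSurjective hp).symm (p c) = Submodule.Quotient.mk c := by
      rw [LinearEquiv.symm_apply_eq]; rfl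
    simp only [ψ, LinearMap.comp_apply, LinearEquiv.coe_coe, e, Submodule.liftQ_apply,
      LinearMap.smul_apply, smul_eq_mul]
  rw [this, og_mul, og_mul, hval]
  ring

include C hU in
/-- Evaluation of germs of the dual is bijective. -/
theorem evalStalk_bijective [IsNoetherianRing Γ(X, U)] (y : X) (hy : y ∈ U) :
    Function.Bijective (RefHull.evalStalk G (Coh.structureModule X) y) := by
  refine ⟨C.evalStalk_injective y hy, fun φ => ?_⟩
  obtain ⟨g, ψ, ⟨w, hw⟩, h⟩ := C.exists_locMap_eq hU y hy ((eO y).symm.toLinearMap ∘ₗ φ)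
  refine ⟨(↑w⁻¹ : X.presheaf.stalk y) • (RefHull.dual G).presheaf.germ U y hy (C.sect hU ψ), ?_⟩
  rw [map_smul, C.evalStalk_sect hU ψ y hy, ← h, ← hw]
  refine LinearMap.ext fun v => ?_
  show (↑w⁻¹ : X.presheaf.stalk y) • eO y ((↑w : X.presheaf.stalk y) * (eO y).symm (φ v)) = φ v
  rw [← smul_eq_mul (↑w : X.presheaf.stalk y), map_smul, LinearEquiv.apply_symm_apply, smul_smul,
    Units.inv_mul, one_smul]

/-- The chart of the dual. -/
def dual [IsNoetherianRing Γ(X, U)] : Chart (RefHull.dual G) U where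
  N := Module.Dual Γ(X, U) C.N
  ι :=
    { toFun := fun ψ => C.sect hU ψ
      map_zero' := Subtype.ext <| funext fun y => C.linearMap_ext y.1 y.2 _ _ fun n => by
        show eO y.1 (C.locMap hU 0 y.1 y.2 _) = 0
        rw [C.locMap_germ]
        simp [og]
      map_add' := fun a b => Subtype.ext <| funext fun y => C.linearMap_ext y.1 y.2 _ _ fun n => by
        show eO y.1 (C.locMap hU (a + b) y.1 y.2 _) =
          eO y.1 (C.locMap hU a y.1 y.2 _) + eO y.1 (C.locMap hU b y.1 y.2 _)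
        rw [C.locMap_germ, C.locMap_germ, C.locMap_germ, ← map_add]
        simp [og] }
  ι_smul r a := Subtype.ext <| funext fun y => C.linearMap_ext y.1 y.2 _ _ fun n => by
    show eO y.1 (C.locMap hU (r • a) y.1 y.2 _) = og U y.1 y.2 r • eO y.1 (C.locMap hU a y.1 y.2 _)
    rw [C.locMap_germ, C.locMap_germ, ← map_smul]
    simp [og]
  germ_surj y hy θ := by
    obtain ⟨g, ψ, hg, h⟩ := C.exists_locMap_eq hU y hy
      ((eO y).symm.toLinearMap ∘ₗ RefHull.evalStalk G (Coh.structureModule X) y θ)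
    refine ⟨g, ψ, hg, C.evalStalk_injective y hy ?_⟩
    show RefHull.evalStalk G _ y (og U y hy g • θ) =
      RefHull.evalStalk G _ y ((RefHull.dual G).presheaf.germ U y hy (C.sect hU ψ))
    rw [map_smul, C.evalStalk_sect hU ψ y hy, ← h]
    refine LinearMap.ext fun v => ?_
    show og U y hy g • RefHull.evalStalk G (Coh.structureModule X) y θ v =
      eO y (og U y hy g * (eO y).symm (RefHull.evalStalk G (Coh.structureModule X) y θ v))
    rw [← smul_eq_mul (og U y hy g), map_smul, LinearEquiv.apply_symm_apply]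
  germ_zero y hy ψ hψ := by
    obtain ⟨t, ht⟩ := Module.Finite.fg_top (R := Γ(X, U)) (M := C.N)
    have h0 : ∀ n, og U y hy (ψ n) = 0 := fun n => by
      have e := congrArg (fun θ => RefHull.evalStalk G (Coh.structureModule X) y θ
        (G.presheaf.germ U y hy (C.ι n))) hψ
      simp only [map_zero, LinearMap.zero_apply] at e
      change RefHull.evalStalk G (Coh.structureModule X) y
        ((RefHull.dual G).presheaf.germ U y hy (C.sect hU ψ)) _ = 0 at e
      rw [C.evalStalk_sect hU ψ y hy, LinearMap.comp_apply, C.locMap_germ, LinearEquiv.coe_coe,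
        LinearEquiv.map_eq_zero_iff] at e
      exact e
    choose h hh hz using fun a : t => exists_unit_og_mul_eq_zero hU y hy (ψ a.1) (h0 a.1)
    refine ⟨∏ a, h a, ?_, LinearMap.ext_on ht fun a ha => ?_⟩
    · show IsUnit ((X.presheaf.germ U y hy).hom (∏ a, h a))
      rw [map_prod, IsUnit.prod_univ_iff]
      exact hh
    · classical
      rw [LinearMap.smul_apply, smul_eq_mul, ← Finset.prod_erase_mul _ _ (Finset.mem_univ (⟨a, ha⟩ : t)),
        mul_assoc, hz ⟨a, ha⟩, mul_zero]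
      rfl

end Chart

end Groth.Agent.ReflStalk
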