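import Groth.Agent.ReflStalk.Normal
import Groth.Agent.NoethPts.Basic

/-!
# Reflexivity at closed points suffices
-/

set_option autoImplicit false
set_option linter.style.haveILetI false
set_option backward.isDefEq.respectTransparency.types false

noncomputable section

universe u

open CategoryTheory AlgebraicGeometry Opposite TopologicalSpace

namespace Groth.Agent.ReflStalk

variable {X : Scheme.{u}} [IsLocallyNoetherian X] {F : X.Modules}

theorem exists_closed_specialization (x : X) : ∃ z : X, x ⤳ z ∧ IsClosed ({z} : Set X) := by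
  obtain ⟨y, hy, hlc⟩ := NoethPts.exists_isLocallyClosed_singleton
    (isClosed_closure (s := ({x} : Set X))).isLocallyClosed ⟨x, subset_closure rfl⟩
  have hxy : x ⤳ y := specializes_iff_mem_closure.2 hy
  rcases Classical.em (∃ z, y ⤳ z ∧ z ≠ y) with ⟨z, hyz, hne⟩ | h
  · exact ⟨z, hxy.trans hyz, NoethPts.isClosed_singleton_of_specializes hlc hyz hne⟩
  · exact ⟨y, hxy, closure_eq_iff_isClosed.1 (subset_antisymm
      (fun z hz => by_contra fun hne => h ⟨z, specializes_iff_mem_closure.2 hz, hne⟩) subset_closure)⟩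

/-- Reflexivity passes to generizations. -/
theorem isReflexiveAt_of_specializes (hF : Coh.IsCoh F) {x y : X} (h : y ⤳ x)
    (hx : RefHull.IsReflexiveAt F x) : RefHull.IsReflexiveAt F y := by
  obtain ⟨_, ⟨U, hU, rfl⟩, hxU, -⟩ :=
    X.isBasis_affineOpens.exists_subset_of_mem_open (Set.mem_univ x) isOpen_univ
  haveI : IsNoetherianRing Γ(X, U) := IsLocallyNoetherian.component_noetherian ⟨U, hU⟩
  have hyU := h.mem_open U.isOpen hxU
  have hb := (stalkMap_bidual_bijective_iff hF x).2 hx
  let φ := RefHull.bidualMap F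
  let C := ofCoh hF hU
  let C'' := (C.dual hU).dual hU
  have hu : ∀ g : Γ(X, U), IsUnit (og U x hxU g) → IsUnit (og U y hyU g) := fun g hg =>
    (X.mem_basicOpen g y hyU).1 (h.mem_open (X.basicOpen g).isOpen ((X.mem_basicOpen g x hxU).2 hg))
  have hzero : ∀ s : Γ(F, U), (RefHull.ddual F).presheaf.germ U x hxU (φ.app U s) = 0 →
      F.presheaf.germ U y hyU s = 0 := by
    intro s hs
    have h0 : F.presheaf.germ U x hxU s = 0 := hb.1 (by rw [RefHull.stalkMapₗ_germ, hs, map_zero])
    rw [← TopCat.Presheaf.germ_stalkSpecializes_apply F.presheaf hxU h s, h0, map_zero]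
  refine (stalkMap_bidual_bijective_iff hF y).1 ⟨(injective_iff_map_eq_zero _).2 fun v hv => ?_, fun w => ?_⟩
  · obtain ⟨g, s, hg, hgs⟩ : ∃ (g : Γ(X, U)) (s : Γ(F, U)), IsUnit (og U y hyU g) ∧
        og U y hyU g • v = F.presheaf.germ U y hyU s := C.germ_surj y hyU v
    have h1 : (RefHull.ddual F).presheaf.germ U y hyU (φ.app U s) = 0 := by
      rw [← RefHull.stalkMapₗ_germ, ← hgs, map_smul, hv, smul_zero]
    obtain ⟨gx, n, hgx, hn⟩ := C''.germ_surj x hxU ((RefHull.ddual F).presheaf.germ U x hxU (φ.app U s))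
    have h2 : (RefHull.ddual F).presheaf.germ U y hyU (C''.ι n) = og U y hyU gx • (RefHull.ddual F).presheaf.germ U y hyU (φ.app U s) := by
      rw [← Mero.germ_smul]
      rw [← Mero.germ_smul] at hn
      rw [← TopCat.Presheaf.germ_stalkSpecializes_apply (RefHull.ddual F).presheaf hxU h (C''.ι n), ← hn,
        TopCat.Presheaf.germ_stalkSpecializes_apply (RefHull.ddual F).presheaf hxU h]
    rw [h1, smul_zero] at h2
    obtain ⟨e, he, hen⟩ := C''.germ_zero y hyU n h2
    have h3 : (RefHull.ddual F).presheaf.germ U x hxU (φ.app U ((e * gx) • s)) = 0 := by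
      rw [Scheme.Modules.Hom.app_smul, mul_smul, Mero.germ_smul, Mero.germ_smul]
      erw [hn]
      rw [← Mero.germ_smul, ← C''.ι_smul, hen, map_zero, map_zero]
    have h4 := hzero _ h3
    rw [Mero.germ_smul] at h4
    have h5 : IsUnit (og U y hyU (e * gx)) := by rw [og_mul]; exact he.mul (hu gx hgx)
    rw [show F.presheaf.germ U y hyU s = og U y hyU g • v from hgs.symm] at h4
    exact (hg.smul_eq_zero).1 ((h5.smul_eq_zero).1 h4)
  · obtain ⟨g, n, hg, hgn⟩ := C''.germ_surj y hyU w
    obtain ⟨v, hv⟩ := hb.2 ((RefHull.ddual F).presheaf.germ U x hxU (C''.ι n))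
    obtain ⟨g', s, hg', hs⟩ : ∃ (g' : Γ(X, U)) (s : Γ(F, U)), IsUnit (og U x hxU g') ∧
        og U x hxU g' • v = F.presheaf.germ U x hxU s := C.germ_surj x hxU v
    have h1 : (RefHull.ddual F).presheaf.germ U x hxU (φ.app U s) =
        (RefHull.ddual F).presheaf.germ U x hxU (g' • C''.ι n) := by
      rw [← RefHull.stalkMapₗ_germ, ← hs, map_smul, Mero.germ_smul]
      exact congrArg _ hv
    have h2 : (RefHull.ddual F).presheaf.germ U y hyU (φ.app U s) =
        (og U y hyU g' * og U y hyU g) • w := by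
      rw [← TopCat.Presheaf.germ_stalkSpecializes_apply (RefHull.ddual F).presheaf hxU h, h1,
        TopCat.Presheaf.germ_stalkSpecializes_apply (RefHull.ddual F).presheaf hxU h, Mero.germ_smul,
        mul_smul]
      exact congrArg _ hgn.symm
    obtain ⟨c, hc⟩ := (hu g' hg').mul hg
    refine ⟨(↑c⁻¹ : X.presheaf.stalk y) • F.presheaf.germ U y hyU s, ?_⟩
    rw [map_smul, RefHull.stalkMapₗ_germ, h2, ← hc, smul_smul, Units.inv_mul, one_smul]

theorem isReflexive_tfae (hF : Coh.IsCoh F) :
    [RefHull.IsReflexive F, ∀ x : X, RefHull.IsReflexiveAt F x,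
      ∀ x : X, IsClosed ({x} : Set X) → RefHull.IsReflexiveAt F x].TFAE := by
  tfae_have 1 ↔ 2 := isReflexive_iff hF
  tfae_have 2 → 3 := fun h x _ => h x
  tfae_have 3 → 2 := fun h y => by
    obtain ⟨x, hyx, hx⟩ := exists_closed_specialization y
    exact isReflexiveAt_of_specializes hF hyx (h x hx)
  tfae_finish

end Groth.Agent.ReflStalk
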