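import Groth.Agent.ReflStalk.Chart
import Groth.Agent.CAlgReflexive.Basic
import Groth.Agent.RefDiv.Coh
import Groth.Prelude.Def_TorSh

/-!
# Reflexive coherent modules are the stalkwise reflexive ones
-/

set_option autoImplicit false
set_option linter.style.haveILetI false
set_option backward.isDefEq.respectTransparency.types false

noncomputable section

universe u

open CategoryTheory AlgebraicGeometry Opposite TopologicalSpace

namespace Groth.Agent.ReflStalk

variable {X : Scheme.{u}}

/-- The stalk of the dual, given that evaluation is bijective. -/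
def toDual (G : X.Modules) (x : X)
    (h : Function.Bijective (RefHull.evalStalk G (Coh.structureModule X) x)) :
    (RefHull.dual G).presheaf.stalk x ≃ₗ[X.presheaf.stalk x]
      Module.Dual (X.presheaf.stalk x) (G.presheaf.stalk x) :=
  (LinearEquiv.ofBijective (RefHull.evalStalk G (Coh.structureModule X) x) h).trans
    (eO x).symm.congrRight

theorem toDual_apply (G : X.Modules) (x : X)
    (h : Function.Bijective (RefHull.evalStalk G (Coh.structureModule X) x))
    (θ : (RefHull.dual G).presheaf.stalk x) (v : G.presheaf.stalk x) :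
    toDual G x h θ v = (eO x).symm (RefHull.evalStalk G (Coh.structureModule X) x θ v) := rfl

theorem evalStalk_bidual (G : X.Modules) (x : X) (v : G.presheaf.stalk x) :
    RefHull.evalStalk (RefHull.dual G) (Coh.structureModule X) x
      (RefHull.stalkMapₗ (RefHull.bidualMap G) x v) = RefHull.bidualAt G x v := by
  obtain ⟨U, hx, s, rfl⟩ := TopCat.Presheaf.exists_germ_eq G.presheaf v
  rw [RefHull.stalkMapₗ_germ, RefHull.evalStalk_germ]
  rfl

variable [IsLocallyNoetherian X] {F : X.Modules}

theorem evalStalk_bijective (hF : Coh.IsCoh F) (x : X) :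
    Function.Bijective (RefHull.evalStalk F (Coh.structureModule X) x) := by
  obtain ⟨_, ⟨U, hU, rfl⟩, hxU, -⟩ :=
    X.isBasis_affineOpens.exists_subset_of_mem_open (Set.mem_univ x) isOpen_univ
  haveI : IsNoetherianRing Γ(X, U) := IsLocallyNoetherian.component_noetherian ⟨U, hU⟩
  exact (ofCoh hF hU).evalStalk_bijective hU x hxU

theorem evalStalk_dual_bijective (hF : Coh.IsCoh F) (x : X) :
    Function.Bijective (RefHull.evalStalk (RefHull.dual F) (Coh.structureModule X) x) := by
  obtain ⟨_, ⟨U, hU, rfl⟩, hxU, -⟩ :=
    X.isBasis_affineOpens.exists_subset_of_mem_open (Set.mem_univ x) isOpen_univ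
  haveI : IsNoetherianRing Γ(X, U) := IsLocallyNoetherian.component_noetherian ⟨U, hU⟩
  exact ((ofCoh hF hU).dual hU).evalStalk_bijective hU x hxU

theorem stalkMap_bidual_bijective_iff (hF : Coh.IsCoh F) (x : X) :
    Function.Bijective (RefHull.stalkMapₗ (RefHull.bidualMap F) x) ↔ RefHull.IsReflexiveAt F x := by
  let e₁ := toDual F x (evalStalk_bijective hF x)
  let e₂ := (toDual (RefHull.dual F) x (evalStalk_dual_bijective hF x)).trans e₁.symm.dualMap
  have key : (e₂ : _ → _) ∘ RefHull.stalkMapₗ (RefHull.bidualMap F) x =
      Module.Dual.eval (X.presheaf.stalk x) (F.presheaf.stalk x) := by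
    funext v
    refine LinearMap.ext fun φ => ?_
    show toDual (RefHull.dual F) x _ (RefHull.stalkMapₗ (RefHull.bidualMap F) x v) (e₁.symm φ) = φ v
    rw [toDual_apply, evalStalk_bidual, RefHull.bidualAt_apply]
    show e₁ (e₁.symm φ) v = φ v
    rw [LinearEquiv.apply_symm_apply]
  constructor
  · intro h
    exact ⟨key ▸ e₂.bijective.comp h⟩
  · intro h
    have hb : Function.Bijective (Module.Dual.eval (X.presheaf.stalk x) (F.presheaf.stalk x)) := h.1
    rw [← key] at hb
    exact (Function.Bijective.of_comp_iff' e₂.bijective _).1 hb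

/-- A coherent module is reflexive iff its stalks are. -/
theorem isReflexive_iff (hF : Coh.IsCoh F) :
    RefHull.IsReflexive F ↔ ∀ x : X, RefHull.IsReflexiveAt F x := by
  constructor
  · intro h x
    haveI : IsIso (RefHull.bidualMap F) := h
    refine (stalkMap_bidual_bijective_iff hF x).1 ?_
    have h2 : IsIso ((Scheme.Modules.toPresheaf X).map (RefHull.bidualMap F)) := inferInstance
    exact (ConcreteCategory.isIso_iff_bijective
      ((TopCat.Presheaf.stalkFunctor Ab x).map ((Scheme.Modules.toPresheaf X).map (RefHull.bidualMap F)))).1 inferInstance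
  · intro h
    exact RefDiv.isIso_of_stalkMap_bijective _ fun x => (stalkMap_bidual_bijective_iff hF x).2 (h x)

end Groth.Agent.ReflStalk
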