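import Groth.Agent.ReflStalk.Global
import Groth.Agent.RefDiv.Dual
import Groth.Agent.RegUFD.Basic

/-!
# Reflexive modules and extension across closed subsets of codimension two
-/

set_option autoImplicit false
set_option linter.style.haveILetI false
set_option backward.isDefEq.respectTransparency.types false

noncomputable section

universe u

open CategoryTheory AlgebraicGeometry Opposite TopologicalSpace Order
open Groth.Agent.RefDiv (toEta eta_mem eta_spec Nrm)

namespace Groth.Agent.ReflStalk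

variable {X : Scheme.{u}} [IsIntegral X]

/-- `V` has small complement in `U` -/
def Big (U V : X.Opens) : Prop :=
  ∀ x : X, x ∈ U → x ∉ V → (2 : WithBot ℕ∞) ≤ ringKrullDim (X.presheaf.stalk x)

/-- sections extend uniquely across codimension two -/
def IsNormalMod (F : X.Modules) : Prop :=
  ∀ (U V : X.Opens) (hVU : V ≤ U), (∀ x : X, x ∈ U → x ∉ V → (2 : WithBot ℕ∞) ≤ ringKrullDim (X.presheaf.stalk x)) →
    Function.Bijective (F.presheaf.map (homOfLE hVU).op)

theorem toEta_eq_zero {F : X.Modules} {U : X.Opens} (C : Chart F U) {x : X} (hx : x ∈ U)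
    (hF : Module.IsTorsionFree (X.presheaf.stalk x) (F.presheaf.stalk x)) (v : F.presheaf.stalk x)
    (hv : toEta F x v = 0) : v = 0 := by
  obtain ⟨g, n, hg, hgn⟩ := C.germ_surj x hx v
  have h0 : F.presheaf.germ U (genericPoint X) (eta_mem hx) (C.ι n) = 0 := by
    rw [← RefDiv.toEta_germ F x hx, ← hgn, RefDiv.toEta_smul, hv, smul_zero]
  obtain ⟨h, hh, hz⟩ := C.germ_zero _ (eta_mem hx) n h0
  have hh0 : og U x hx h ≠ 0 := fun h' => hh.ne_zero (by
    have := congrArg (X.presheaf.stalkSpecializes (eta_spec x)) h'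
    rw [map_zero] at this
    rwa [og, TopCat.Presheaf.germ_stalkSpecializes_apply] at this)
  have h1 : og U x hx h • (og U x hx g • v) = 0 := by
    rw [hgn, ← Mero.germ_smul, ← C.ι_smul, hz, map_zero, map_zero]
  rcases smul_eq_zero.1 h1 with h2 | h2
  · exact absurd h2 hh0
  · exact (hg.smul_eq_zero).1 h2

variable [IsLocallyNoetherian X] {F : X.Modules}

theorem toEta_injective (hF : Coh.IsCoh F) (x : X)
    (htf : Module.IsTorsionFree (X.presheaf.stalk x) (F.presheaf.stalk x)) :
    Function.Injective (toEta F x) := by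
  obtain ⟨_, ⟨U, hU, rfl⟩, hxU, -⟩ :=
    X.isBasis_affineOpens.exists_subset_of_mem_open (Set.mem_univ x) isOpen_univ
  exact (injective_iff_map_eq_zero _).2 fun v hv => toEta_eq_zero (ofCoh hF hU) hxU htf v hv

theorem isTorsionFree_of_isReflexiveAt (hF : Coh.IsCoh F) (x : X) (h : RefHull.IsReflexiveAt F x) :
    Module.IsTorsionFree (X.presheaf.stalk x) (F.presheaf.stalk x) := by
  haveI := RefDiv.finite_stalk hF x
  haveI : Module.IsReflexive (X.presheaf.stalk x) (F.presheaf.stalk x) := h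
  exact (CAlgMisc.eval_injective_iff _ _).1 (Module.bijective_dual_eval _ _).1

theorem eq_of_eta (hF : Coh.IsCoh F) (htf : TorSh.IsTorsionFree F) {U : X.Opens} (hη : genericPoint X ∈ U)
    (s t : Γ(F, U)) (h : F.presheaf.germ U (genericPoint X) hη s = F.presheaf.germ U (genericPoint X) hη t) :
    s = t :=
  TopCat.Presheaf.section_ext ⟨F.presheaf, F.isSheaf⟩ U s t fun x hx =>
    toEta_injective hF x (htf x) ((RefDiv.toEta_germ F x hx s).trans (h.trans (RefDiv.toEta_germ F x hx t).symm))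

omit [IsLocallyNoetherian X] in
theorem ringKrullDim_eta : ringKrullDim (X.presheaf.stalk (genericPoint X)) = 0 :=
  ringKrullDim_eq_zero_of_isField (Field.toIsField (X.functionField))

omit [IsLocallyNoetherian X] in
theorem eta_mem_of_big {U V : X.Opens} (h : Big U V) {x : X} (hx : x ∈ U) : genericPoint X ∈ V := by
  by_contra hη
  have := h _ (eta_mem hx) hη
  rw [ringKrullDim_eta] at this
  exact absurd this (by decide)

theorem res_injective (hF : Coh.IsCoh F) (htf : TorSh.IsTorsionFree F) {U V : X.Opens} (hVU : V ≤ U)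
    (h : Big U V) : Function.Injective (F.presheaf.map (homOfLE hVU).op) := by
  intro s t hst
  refine TopCat.Presheaf.section_ext ⟨F.presheaf, F.isSheaf⟩ U s t fun x hx => ?_
  refine toEta_injective hF x (htf x) ?_
  have hη := eta_mem_of_big h hx
  have e := congrArg (F.presheaf.germ V (genericPoint X) hη) hst
  rw [TopCat.Presheaf.germ_res_apply, TopCat.Presheaf.germ_res_apply] at e
  exact (RefDiv.toEta_germ F x hx s).trans (e.trans (RefDiv.toEta_germ F x hx t).symm)

omit [IsLocallyNoetherian X] in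
theorem eO_compat (y : X) (a : X.presheaf.stalk y) :
    toEta (Coh.structureModule X) y (eO y a) =
      eO (genericPoint X) (X.presheaf.stalkSpecializes (eta_spec y) a) := by
  obtain ⟨W, hy, r, rfl⟩ := TopCat.Presheaf.exists_germ_eq X.presheaf a
  rw [← og, eO_germ, RefDiv.toEta_germ, og, TopCat.Presheaf.germ_stalkSpecializes_apply, ← og, eO_germ]

omit [IsLocallyNoetherian X] in
theorem eval_compat {G H : X.Modules} {W : X.Opens} (g : Γ(RefHull.homSh G H, W)) (y : X) (hy : y ∈ W)
    (v : G.presheaf.stalk y) :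
    toEta H y (g.1 ⟨y, hy⟩ v) = g.1 ⟨genericPoint X, eta_mem hy⟩ (toEta G y v) := by
  obtain ⟨U, hyU, m, rfl⟩ := TopCat.Presheaf.exists_germ_eq G.presheaf v
  obtain ⟨T, hyT, j, n, hn⟩ := RefHull.isLocSect_of_mem g (U ⊓ W) (homOfLE inf_le_right)
    (G.presheaf.map (homOfLE inf_le_left).op m) ⟨y, hyU, hy⟩
  have e₁ := hn ⟨y, hyT⟩
  have e₂ := hn ⟨genericPoint X, eta_mem hyT⟩
  rw [TopCat.Presheaf.germ_res_apply] at e₁ e₂
  rw [RefDiv.toEta_germ]
  exact (congrArg (toEta H y) e₁).trans ((RefDiv.toEta_germ H y hyT n).trans e₂.symm)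

omit [IsLocallyNoetherian X] in
/-- evaluation commutes with generization -/
theorem evalStalk_compat {G H : X.Modules} (y : X) (θ : (RefHull.homSh G H).presheaf.stalk y)
    (v : G.presheaf.stalk y) :
    toEta H y (RefHull.evalStalk G H y θ v) =
      RefHull.evalStalk G H (genericPoint X) (toEta (RefHull.homSh G H) y θ) (toEta G y v) := by
  obtain ⟨W, hy, g, rfl⟩ := TopCat.Presheaf.exists_germ_eq (RefHull.homSh G H).presheaf θ
  rw [RefHull.evalStalk_germ, RefDiv.toEta_germ, RefHull.evalStalk_germ]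
  exact eval_compat g y hy v

/-- An element of the generic stalk lying in all stalks in codimension one lies in a reflexive stalk. -/
theorem exists_lift [Nrm X] (hF : Coh.IsCoh F) (hη : RefHull.IsReflexiveAt F (genericPoint X))
    (x : X) (hx : RefHull.IsReflexiveAt F x) (v₀ : F.presheaf.stalk (genericPoint X))
    (h : ∀ z : X, z ⤳ x → coheight z = 1 → ∃ w, toEta F z w = v₀) :
    ∃ v, toEta F x v = v₀ := by
  let R := X.presheaf.stalk x
  let e := toDual F x (evalStalk_bijective hF x)
  let eη := toDual F (genericPoint X) (evalStalk_bijective hF _)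
  let ℓ : Module.Dual R (F.presheaf.stalk x) → X.functionField := fun φ =>
    eη (toEta (RefHull.dual F) x (e.symm φ)) v₀
  have hmem : ∀ φ, ℓ φ ∈ (algebraMap R X.functionField).range := fun φ => by
    refine RefDiv.mem_range_of_codim_one x _ fun z hzx hz => ?_
    obtain ⟨W, hxW, g, hg⟩ := TopCat.Presheaf.exists_germ_eq (RefHull.dual F).presheaf (e.symm φ)
    have hzW : z ∈ W := hzx.mem_open W.isOpen hxW
    obtain ⟨w, hw⟩ := h z hzx hz
    refine ⟨toDual F z (evalStalk_bijective hF z) ((RefHull.dual F).presheaf.germ W z hzW g) w, ?_⟩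
    refine (eO (genericPoint X)).injective ?_
    show eO (genericPoint X) (X.presheaf.stalkSpecializes (eta_spec z) _) = _
    rw [← eO_compat, toDual_apply, LinearEquiv.apply_symm_apply, evalStalk_compat, hw]
    show _ = eO (genericPoint X) ((eO (genericPoint X)).symm _)
    rw [LinearEquiv.apply_symm_apply, ← hg, RefDiv.toEta_germ, RefDiv.toEta_germ]
    rfl
  have hinj : Function.Injective (algebraMap R X.functionField) := IsFractionRing.injective R _
  choose q hq using fun φ => RingHom.mem_range.1 (hmem φ)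
  let y : Module.Dual R (Module.Dual R (F.presheaf.stalk x)) :=
    { toFun := q
      map_add' := fun φ ψ => hinj (by
        rw [map_add, hq, hq, hq]
        simp only [ℓ, map_add, LinearMap.add_apply])
      map_smul' := fun r φ => hinj (by
        rw [RingHom.id_apply, smul_eq_mul, map_mul, hq, hq]
        show eη (toEta (RefHull.dual F) x (e.symm ((r : X.presheaf.stalk x) • φ))) v₀ = _
        rw [map_smul, RefDiv.toEta_smul (RefHull.dual F) x (r : X.presheaf.stalk x), map_smul]
        rfl) }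
  haveI : Module.IsReflexive R (F.presheaf.stalk x) := hx
  obtain ⟨v, hv⟩ := (Module.bijective_dual_eval R (F.presheaf.stalk x)).2 y
  refine ⟨v, ?_⟩
  haveI : Module.IsReflexive (X.presheaf.stalk (genericPoint X)) (F.presheaf.stalk (genericPoint X)) := hη
  refine (Module.bijective_dual_eval (X.presheaf.stalk (genericPoint X)) _).1 (LinearMap.ext fun φ => ?_)
  obtain ⟨θ, rfl⟩ := eη.surjective φ
  show eη θ (toEta F x v) = eη θ v₀
  obtain ⟨_, ⟨U, hU, rfl⟩, hxU, -⟩ :=
    X.isBasis_affineOpens.exists_subset_of_mem_open (Set.mem_univ x) isOpen_univ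
  haveI : IsNoetherianRing Γ(X, U) := IsLocallyNoetherian.component_noetherian ⟨U, hU⟩
  obtain ⟨g, n, hg, hgn⟩ := ((ofCoh hF hU).dual hU).germ_surj (genericPoint X) (eta_mem hxU) θ
  obtain ⟨θx, hθx⟩ : ∃ θx, toEta (RefHull.dual F) x θx = og U (genericPoint X) (eta_mem hxU) g • θ :=
    ⟨_, (RefDiv.toEta_germ (RefHull.dual F) x hxU _).trans hgn.symm⟩
  have key : eη (toEta (RefHull.dual F) x θx) (toEta F x v) = eη (toEta (RefHull.dual F) x θx) v₀ := by
    have h1 : q (e θx) = e θx v := (LinearMap.congr_fun hv (e θx)).symm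
    have h2 := hq (e θx)
    simp only [ℓ, LinearEquiv.symm_apply_apply] at h2
    rw [← h2, h1]
    refine (eO (genericPoint X)).injective ?_
    show _ = eO (genericPoint X) (X.presheaf.stalkSpecializes (eta_spec x) _)
    rw [← eO_compat, toDual_apply, toDual_apply, LinearEquiv.apply_symm_apply,
      LinearEquiv.apply_symm_apply, evalStalk_compat]
  rw [hθx, map_smul, LinearMap.smul_apply, LinearMap.smul_apply] at key
  exact hg.smul_left_cancel.1 key

omit [IsLocallyNoetherian X] in
theorem ringKrullDim_le_one {z : X} (hz : coheight z = 1) : ringKrullDim (X.presheaf.stalk z) ≤ 1 := by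
  rw [AlgebraicGeometry.ringKrullDim_stalk_eq_coheight, hz]
  rfl

/-- A stalkwise reflexive coherent module extends uniquely across codimension two. -/
theorem isNormalMod_of_isReflexive [Nrm X] (hF : Coh.IsCoh F) (h : RefHull.IsReflexive F) :
    TorSh.IsTorsionFree F ∧ IsNormalMod F := by
  have hr := (isReflexive_iff hF).1 h
  have htf : TorSh.IsTorsionFree F := fun x => isTorsionFree_of_isReflexiveAt hF x (hr x)
  refine ⟨htf, fun U V hVU hbig => ⟨res_injective hF htf hVU hbig, fun t => ?_⟩⟩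
  rcases Classical.em (∃ x, x ∈ U) with ⟨x₀, hx₀⟩ | hU
  swap
  · exact ⟨0, TopCat.Presheaf.section_ext ⟨F.presheaf, F.isSheaf⟩ V _ t fun x hx => absurd ⟨x, hVU hx⟩ hU⟩
  have hηV := eta_mem_of_big hbig hx₀
  let v₀ := F.presheaf.germ V (genericPoint X) hηV t
  have hlift : ∀ x : U, ∃ (W : X.Opens) (_ : x.1 ∈ W) (hW : W ≤ U) (s : Γ(F, W)),
      ∀ hη : genericPoint X ∈ W, F.presheaf.germ W (genericPoint X) hη s = v₀ := by
    rintro ⟨x, hx⟩
    obtain ⟨v, hv⟩ := exists_lift hF (hr _) x (hr x) v₀ fun z hzx hz => by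
      have hzV : z ∈ V := by
        by_contra hzV
        have := (hbig z (hzx.mem_open U.isOpen hx) hzV).trans (ringKrullDim_le_one hz)
        exact absurd this (by decide)
      exact ⟨F.presheaf.germ V z hzV t, RefDiv.toEta_germ F z hzV t⟩
    obtain ⟨W, hxW, s, rfl⟩ := TopCat.Presheaf.exists_germ_eq F.presheaf v
    refine ⟨W ⊓ U, ⟨hxW, hx⟩, inf_le_right, F.presheaf.map (homOfLE inf_le_left).op s, fun hη => ?_⟩
    rw [TopCat.Presheaf.germ_res_apply, ← hv, RefDiv.toEta_germ]
  choose W hxW hWU s hs using hlift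
  obtain ⟨σ, hσ, -⟩ := TopCat.Sheaf.existsUnique_gluing' (⟨F.presheaf, F.isSheaf⟩ : TopCat.Sheaf Ab X)
    W U (fun i => homOfLE (hWU i)) (fun y hy => Opens.mem_iSup.2 ⟨⟨y, hy⟩, hxW _⟩) s (fun i j =>
      eq_of_eta hF htf (U := W i ⊓ W j) ⟨eta_mem (hxW i), eta_mem (hxW j)⟩ _ _ (by
        rw [TopCat.Presheaf.germ_res_apply, TopCat.Presheaf.germ_res_apply]
        exact (hs i _).trans (hs j _).symm))
  refine ⟨σ, eq_of_eta hF htf hηV _ _ ?_⟩
  rw [TopCat.Presheaf.germ_res_apply]
  have e := congrArg (F.presheaf.germ (W ⟨x₀, hx₀⟩) (genericPoint X) (eta_mem (hxW _))) (hσ ⟨x₀, hx₀⟩)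
  rw [TopCat.Presheaf.germ_res_apply] at e
  exact e.trans (hs _ _)

/-- Converse. -/
theorem isReflexive_of_isNormalMod (hF : Coh.IsCoh F) (htf : TorSh.IsTorsionFree F) (hn : IsNormalMod F)
    (hlow : ∀ z : X, ringKrullDim (X.presheaf.stalk z) ≤ 1 → RefHull.IsReflexiveAt F z) :
    RefHull.IsReflexive F := by
  refine (isReflexive_iff hF).2 fun x => (stalkMap_bidual_bijective_iff hF x).1 ?_
  have hinj : ∀ z, Function.Injective (RefHull.stalkMapₗ (RefHull.bidualMap F) z) := fun z a b hab => by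
    haveI := RefDiv.finite_stalk hF z
    have heval := (CAlgMisc.eval_injective_iff (X.presheaf.stalk z) (F.presheaf.stalk z)).2 (htf z)
    refine heval (LinearMap.ext fun φ => ?_)
    obtain ⟨θ, rfl⟩ := (toDual F z (evalStalk_bijective hF z)).surjective φ
    have := congrArg (fun c => RefHull.evalStalk (RefHull.dual F) (Coh.structureModule X) z c θ) hab
    simp only [evalStalk_bidual, RefHull.bidualAt_apply] at this
    exact congrArg (eO z).symm this
  refine ⟨hinj x, fun w => ?_⟩
  obtain ⟨U₀, hxU₀, w₀, rfl⟩ := TopCat.Presheaf.exists_germ_eq (RefHull.ddual F).presheaf w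
  obtain ⟨_, ⟨U, hU, rfl⟩, hxU, hle⟩ :=
    X.isBasis_affineOpens.exists_subset_of_mem_open hxU₀ U₀.isOpen
  replace hle : U ≤ U₀ := hle
  haveI : IsNoetherianRing Γ(X, U) := IsLocallyNoetherian.component_noetherian ⟨U, hU⟩
  rw [← TopCat.Presheaf.germ_res_apply (RefHull.ddual F).presheaf (homOfLE hle) x hxU]
  generalize (RefHull.ddual F).presheaf.map (homOfLE hle).op w₀ = w₁
  let S : Set (X.Opens) := {W | W ≤ U ∧ ∃ s : Γ(F, W), ∀ (z : X) (hz : z ∈ W) (hzU : z ∈ U),
    RefHull.stalkMapₗ (RefHull.bidualMap F) z (F.presheaf.germ W z hz s) =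
      (RefHull.ddual F).presheaf.germ U z hzU w₁}
  have hlocal : ∀ z : X, ∀ hz : z ∈ U, ringKrullDim (X.presheaf.stalk z) ≤ 1 → ∃ W ∈ S, z ∈ W := by
    intro z hz hd
    obtain ⟨v, hv⟩ := ((stalkMap_bidual_bijective_iff hF z).2 (hlow z hd)).2
      ((RefHull.ddual F).presheaf.germ U z hz w₁)
    obtain ⟨W₀, hzW₀, s₀, rfl⟩ := TopCat.Presheaf.exists_germ_eq F.presheaf v
    rw [RefHull.stalkMapₗ_germ] at hv
    obtain ⟨W, hzW, i₁, i₂, hW⟩ := TopCat.Presheaf.germ_eq (RefHull.ddual F).presheaf z hzW₀ hz _ _ hv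
    refine ⟨W, ⟨i₂.le, F.presheaf.map i₁.op s₀, fun y hy hyU => ?_⟩, hzW⟩
    rw [TopCat.Presheaf.germ_res_apply, RefHull.stalkMapₗ_germ]
    have e := congrArg ((RefHull.ddual F).presheaf.germ W y hy) hW
    rwa [TopCat.Presheaf.germ_res_apply, TopCat.Presheaf.germ_res_apply] at e
  let ι := {W : X.Opens // W ∈ S}
  let V : X.Opens := ⨆ i : ι, i.1
  have hVU : V ≤ U := iSup_le fun i => i.2.1
  choose s hs using fun i : ι => i.2.2
  obtain ⟨t, ht, -⟩ := TopCat.Sheaf.existsUnique_gluing' (⟨F.presheaf, F.isSheaf⟩ : TopCat.Sheaf Ab X)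
    (fun i : ι => i.1) V (fun i => homOfLE (le_iSup (fun i : ι => i.1) i)) le_rfl s (fun i j => by
      refine TopCat.Presheaf.section_ext ⟨F.presheaf, F.isSheaf⟩ (i.1 ⊓ j.1) _ _ fun z hz => ?_
      show F.presheaf.germ (i.1 ⊓ j.1) z hz _ = F.presheaf.germ (i.1 ⊓ j.1) z hz _
      rw [TopCat.Presheaf.germ_res_apply, TopCat.Presheaf.germ_res_apply]
      exact hinj z ((hs i z hz.1 (i.2.1 hz.1)).trans (hs j z hz.2 (j.2.1 hz.2)).symm))
  have hbig : Big U V := fun z hz hzV => by
    by_contra hcon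
    have hd : ringKrullDim (X.presheaf.stalk z) ≤ 1 := by
      rw [ringKrullDim_stalk_eq_coheight] at hcon ⊢
      have h2 : ¬ (2 : ℕ∞) ≤ coheight z := fun h => hcon (WithBot.coe_le_coe.2 h)
      refine WithBot.coe_le_coe.2 ?_
      exact ENat.lt_natCast_add_one_iff.1 (not_le.1 h2 : coheight z < ((1 : ℕ) : ℕ∞) + 1)
    obtain ⟨W, hW, hzW⟩ := hlocal z hz hd
    exact hzV (Opens.mem_iSup.2 ⟨⟨W, hW⟩, hzW⟩)
  obtain ⟨σ, hσ⟩ := (hn U V hVU hbig).2 t
  refine ⟨F.presheaf.germ U x hxU σ, ?_⟩
  have hdd : Module.IsTorsionFree (X.presheaf.stalk x) ((RefHull.ddual F).presheaf.stalk x) := by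
    haveI : Module.IsTorsionFree (X.presheaf.stalk x)
        (Module.Dual (X.presheaf.stalk x) ((RefHull.dual F).presheaf.stalk x)) := inferInstance
    exact (toDual (RefHull.dual F) x (evalStalk_dual_bijective hF x)).injective.moduleIsTorsionFree _
      (fun r m => map_smul _ r m)
  refine sub_eq_zero.1 (toEta_eq_zero (((ofCoh hF hU).dual hU).dual hU) hxU hdd _ ?_)
  rw [map_sub, sub_eq_zero, RefDiv.toEta_stalkMap, RefDiv.toEta_germ, RefDiv.toEta_germ]
  have hηV := eta_mem_of_big hbig hxU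
  obtain ⟨i, hi⟩ := Opens.mem_iSup.1 hηV
  refine Eq.trans ?_ (hs i _ hi (hVU hηV))
  refine congrArg _ ?_
  have e1 := congrArg (F.presheaf.germ V (genericPoint X) hηV) hσ
  rw [TopCat.Presheaf.germ_res_apply] at e1
  have e2 := congrArg (F.presheaf.germ i.1 (genericPoint X) hi) (ht i)
  rw [TopCat.Presheaf.germ_res_apply] at e2
  exact e1.trans e2

omit [IsLocallyNoetherian X] in
theorem nrm_of_regular (hreg : ∀ x : X, IsRegularLocalRing (X.presheaf.stalk x)) : Nrm X :=
  ⟨fun x => ⟨inferInstance, by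
    have := hreg x
    have := RegUFD.ufd (X.presheaf.stalk x)
    infer_instance⟩⟩

/-- Torsion-free modules are reflexive in dimension at most one. -/
theorem reflexive_low (hreg : ∀ x : X, IsRegularLocalRing (X.presheaf.stalk x)) (hF : Coh.IsCoh F)
    (htf : TorSh.IsTorsionFree F) (z : X) (hz : ringKrullDim (X.presheaf.stalk z) ≤ 1) :
    RefHull.IsReflexiveAt F z := by
  have := hreg z
  have := RegUFD.ufd (X.presheaf.stalk z)
  have := CAlgReflexive.isPrincipalIdealRing_of_normal_dim_le_one (X.presheaf.stalk z) hz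
  have := RefDiv.finite_stalk hF z
  have := htf z
  have : Module.Free (X.presheaf.stalk z) (F.presheaf.stalk z) := Module.free_of_finite_type_torsion_free'
  show Module.IsReflexive _ _
  infer_instance

end Groth.Agent.ReflStalk
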